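import Mathlib
import Cfsg.Agent.Lib.Helper8.PG.Defs
import Cfsg.Agent.Lib.Helper40.PSpRS
import Cfsg.Agent.Lib.Helper61.OCls.Dual
import Cfsg.Agent.Lib.Helper14.OmegaInv

/-!
# PG (S2474) package [OTOSP]: odd orders prime to `p` transfer from `O_{2n+1}(q)` to `Sp_{2n}(q)`

`split_one` (splitting the eigenvalue `1` off a self-dual characteristic polynomial of a matrix of
odd order) is shared with the package [SPTOBLK].
-/

set_option autoImplicit false

namespace Cfsg.Agent.Lib.Helper20.PG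

open Matrix Polynomial Cfsg.Agent.Lib.Helper8.PG Cfsg.Agent.Lib.Helper40.DualPoly

universe u

theorem eval_one_reverse {F : Type u} [Field F] (f : F[X]) : f.reverse.eval 1 = f.eval 1 := by
  haveI : Invertible (1 : F) := invertibleOne
  have h := eval₂_reverse_mul_pow (RingHom.id F) (1 : F) f
  rw [invOf_one, one_pow, mul_one] at h
  exact h

/-- Splitting the eigenvalue `1` off the self-dual characteristic polynomial of a matrix of odd
order: the cofactor is monic, self-dual, with non-zero constant term and without the roots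
`1`, `-1`. -/
theorem split_one {F : Type u} [Field F] (h2 : (2 : F) ≠ 0) {ι : Type} [Fintype ι]
    [DecidableEq ι] (M : Matrix ι ι F) (N : ℕ) (hN : Odd N) (hMN : M ^ N = 1)
    (hd : dual (RingHom.id F) M.charpoly = M.charpoly) :
    ∃ (e : ℕ) (f₀ : F[X]), M.charpoly = (X - C 1) ^ e * f₀ ∧
      e = M.charpoly.rootMultiplicity 1 ∧ f₀.Monic ∧ f₀.coeff 0 ≠ 0 ∧
      dual (RingHom.id F) f₀ = f₀ ∧ f₀.eval 1 ≠ 0 ∧ f₀.eval (-1) ≠ 0 := by
  have hχ0 : M.charpoly ≠ 0 := (Matrix.charpoly_monic M).ne_zero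
  obtain ⟨f₀, hf, hnd⟩ :=
    Polynomial.exists_eq_pow_rootMultiplicity_mul_and_not_dvd M.charpoly hχ0 1
  obtain ⟨e, he⟩ : ∃ e : ℕ, e = M.charpoly.rootMultiplicity 1 := ⟨_, rfl⟩
  rw [← he] at hf
  have hpm : ((X - C (1 : F)) ^ e).Monic := (monic_X_sub_C 1).pow e
  have hmon : f₀.Monic := by
    apply Monic.of_mul_monic_left hpm
    rw [← hf]
    exact Matrix.charpoly_monic M
  have hdetN : M.det ^ N = 1 := by rw [← Matrix.det_pow, hMN, Matrix.det_one]
  have hdet0 : M.det ≠ 0 := by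
    intro h0
    rw [h0, zero_pow hN.pos.ne'] at hdetN
    exact zero_ne_one hdetN
  have hf0 : f₀.coeff 0 ≠ 0 := by
    intro h0
    apply hdet0
    rw [Matrix.det_eq_sign_charpoly_coeff, hf, mul_coeff_zero, h0, mul_zero, mul_zero]
  have hfd : dual (RingHom.id F) f₀ = f₀ := by
    have h := hd
    rw [hf, dual_mul, dual_pow, dual_X_sub_one] at h
    exact mul_left_cancel₀ (pow_ne_zero e (X_sub_C_ne_zero 1)) h
  have hf1 : f₀.eval 1 ≠ 0 := fun h => hnd (dvd_iff_isRoot.mpr h)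
  refine ⟨e, f₀, hf, he, hmon, hf0, hfd, hf1, ?_⟩
  intro hm1
  have hdvd : (X - C (-1 : F)) ∣ M.charpoly := by
    rw [hf]
    exact Dvd.dvd.mul_left (dvd_iff_isRoot.mpr hm1) _
  have hae : aeval M (X ^ N - 1 : F[X]) = 0 := by simp [hMN]
  have h1 := Cfsg.Agent.Lib.Helper40.PSpRS.irr_dvd_of_aeval M _ hae (X - C (-1 : F))
    (irreducible_X_sub_C (-1)) hdvd
  have h3 : (X ^ N - 1 : F[X]).eval (-1) = 0 := dvd_iff_isRoot.mp h1
  rw [eval_sub, eval_pow, eval_X, eval_one, Odd.neg_one_pow hN] at h3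
  exact h2 (by linear_combination (-1 : F) * h3)

theorem pkgOtoSp : PkgOtoSp.{u} := by
  intro hOrd F _ _ hodd p _ _ n N hNodd hNp hO
  obtain ⟨g, hiso, hord⟩ := hO
  have h2 : (2 : F) ≠ 0 := Cfsg.Agent.Lib.Helper14.two_ne_zero_of_card_odd hodd
  have hNF : (N : F) ≠ 0 := Cfsg.Agent.Lib.Helper40.natCast_ne_zero_of_coprime p N hNp
  have hgN : g ^ N = 1 := (hord N).2 dvd_rfl
  have hdual : dual (RingHom.id F) g.charpoly = g.charpoly :=
    Cfsg.Agent.Lib.Helper61.OCls.pkgDual (Cfsg.Agent.Lib.Helper14.oddQF n F)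
      (Cfsg.Agent.Lib.Helper14.oddQF_nondegenerate n F h2) g
      (by rw [Cfsg.Agent.Lib.Helper14.oddQF_coe]; exact hiso)
  obtain ⟨e, f₀, hf, he, hmon, hf0, hfd, hf1, hfm1⟩ := split_one h2 g N hNodd hgN hdual
  have hmonχ := Matrix.charpoly_monic g
  have hcard : Fintype.card (OI n) = 2 * n + 1 := by
    simp only [OI, Fintype.card_sum, Fintype.card_unit, Fintype.card_fin]
    omega
  -- the determinant is `1`, so the constant term is `-1`
  have hdetN : g.det ^ N = 1 := by rw [← Matrix.det_pow, hgN, Matrix.det_one]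
  have hdet : g.det = - g.charpoly.coeff 0 := by
    rw [Matrix.det_eq_sign_charpoly_coeff, hcard, Odd.neg_one_pow ⟨n, rfl⟩, neg_one_mul]
  have hc0 : g.charpoly.coeff 0 ≠ 0 := by
    intro h0
    rw [h0, neg_zero] at hdet
    rw [hdet, zero_pow hNodd.pos.ne'] at hdetN
    exact zero_ne_one hdetN
  have hcc : g.charpoly.coeff 0 * g.charpoly.coeff 0 = 1 := by
    have h := coeff_zero_dual (RingHom.id F) g.charpoly hmonχ
    rw [hdual, RingHom.id_apply] at h
    have h' : g.charpoly.coeff 0 * g.charpoly.coeff 0 =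
        g.charpoly.coeff 0 * (g.charpoly.coeff 0)⁻¹ := congrArg (fun x => g.charpoly.coeff 0 * x) h
    rw [h', mul_inv_cancel₀ hc0]
  have hcm1 : g.charpoly.coeff 0 = -1 := by
    rcases mul_self_eq_one_iff.mp hcc with h1 | h1
    · exfalso
      rw [hdet, h1, Odd.neg_one_pow hNodd] at hdetN
      exact h2 (by linear_combination (-1 : F) * hdetN)
    · exact h1
  have hroot : g.charpoly.eval 1 = 0 := by
    have h := congrArg (Polynomial.eval 1) hdual
    unfold dual at h
    rw [Polynomial.map_id, eval_mul, eval_C, eval_one_reverse, RingHom.id_apply, hcm1, inv_neg,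
      inv_one] at h
    have h3 : (2 : F) * g.charpoly.eval 1 = 0 := by linear_combination -h
    exact (mul_eq_zero.mp h3).resolve_left h2
  have he1 : 1 ≤ e := by
    rw [he]
    exact (Polynomial.rootMultiplicity_pos hmonχ.ne_zero).2 hroot
  have hdeg : f₀.natDegree ≤ 2 * n := by
    have h1 : g.charpoly.natDegree = 2 * n + 1 := by
      rw [Matrix.charpoly_natDegree_eq_dim, hcard]
    rw [hf, ((monic_X_sub_C (1 : F)).pow e).natDegree_mul hmon,
      (monic_X_sub_C (1 : F)).natDegree_pow, natDegree_X_sub_C] at h1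
    omega
  obtain ⟨S, e', hSχ, N', hN'pos, hN'p, hSN'⟩ :=
    Cfsg.Agent.Lib.Helper40.PSpRS.exists_sp_of_poly p n f₀ hmon hf0 hfd hf1 hfm1 hdeg
  have hN'F : (N' : F) ≠ 0 := Cfsg.Agent.Lib.Helper40.natCast_ne_zero_of_coprime p N' hN'p
  have hS1 : S.1 ^ N' = 1 := by
    rw [← SubmonoidClass.coe_pow, hSN']
    rfl
  refine ⟨S, fun j => ?_⟩
  have key := hOrd S.1 g N' N hN'F hNF hS1 hgN e' e f₀ hSχ hf j
  rw [← hord j, ← key]
  constructor
  · intro h
    rw [← SubmonoidClass.coe_pow, h]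
    rfl
  · intro h
    apply Subtype.ext
    rw [SubmonoidClass.coe_pow, h]
    rfl

end Cfsg.Agent.Lib.Helper20.PG
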