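import Mathlib
import Cfsg.Agent.Lib.Helper20.PG.OtoSp
import Cfsg.Agent.Lib.Helper79.OCls.InvForm

/-!
# PG (S2474) package [SPTOBLK]: a symplectic matrix of odd order `N` prime to `p` gives a block
of dimension at most `2 n` with an isometry of order `N`
-/

set_option autoImplicit false

namespace Cfsg.Agent.Lib.Helper20.PG

open Matrix Polynomial Cfsg.Agent.Lib.Helper8.PG Cfsg.Agent.Lib.Helper40.DualPoly

universe u

theorem pkgSptoBlk : PkgSptoBlk.{u} := by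
  intro hOrd F _ _ hodd p _ _ n N hNodd hNp hS
  obtain ⟨S, hord⟩ := hS
  have h2 : (2 : F) ≠ 0 := Cfsg.Agent.Lib.Helper14.two_ne_zero_of_card_odd hodd
  have hNF : (N : F) ≠ 0 := Cfsg.Agent.Lib.Helper40.natCast_ne_zero_of_coprime p N hNp
  have hSN : S ^ N = 1 := (hord N).2 dvd_rfl
  have hS1 : S.1 ^ N = 1 := by
    rw [← SubmonoidClass.coe_pow, hSN]
    rfl
  have hdual := Cfsg.Agent.Lib.Helper40.SpExist.dual_charpoly_sp S
  obtain ⟨e, f₀, hf, he, hmon, hf0, hfd, hf1, hfm1⟩ := split_one h2 S.1 N hNodd hS1 hdual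
  have hG := Cfsg.Agent.Lib.Helper40.SpExist.good_of_no_pm p f₀ hmon hf0 hfd hf1 hfm1
  obtain ⟨m₀, hdeg₀, S₀, hχ₀, N'', hN''pos, hN''p, hS₀N''⟩ :=
    Cfsg.Agent.Lib.Helper40.SpExist.sp_of_good hG
  have hm₀ : m₀ ≤ n := by
    have h1 : S.1.charpoly.natDegree = 2 * n := by
      rw [Matrix.charpoly_natDegree_eq_dim, Fintype.card_sum, Fintype.card_fin]
      omega
    rw [hf, ((monic_X_sub_C (1 : F)).pow e).natDegree_mul hmon,
      (monic_X_sub_C (1 : F)).natDegree_pow, natDegree_X_sub_C] at h1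
    omega
  have hN''F : (N'' : F) ≠ 0 := Cfsg.Agent.Lib.Helper40.natCast_ne_zero_of_coprime p N'' hN''p
  have hS₀1 : S₀.1 ^ N'' = 1 := by
    rw [← SubmonoidClass.coe_pow, hS₀N'']
    rfl
  have key : ∀ j : ℕ, S₀.1 ^ j = 1 ↔ N ∣ j := by
    intro j
    have k := hOrd S₀.1 S.1 N'' N hN''F hNF hS₀1 hS1 0 e f₀
      (by rw [pow_zero, one_mul]; exact hχ₀) hf j
    rw [k, ← hord j]
    constructor
    · intro h
      apply Subtype.ext
      rw [SubmonoidClass.coe_pow, h]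
      rfl
    · intro h
      rw [← SubmonoidClass.coe_pow, h]
      rfl
  have hS₀N : S₀.1 ^ N = 1 := (key N).2 dvd_rfl
  obtain ⟨Q, hQ, hQinv⟩ := Cfsg.Agent.Lib.Helper79.OCls.pkgInvForm S₀.1 N hNodd hNF hS₀N
    (Cfsg.Agent.Lib.Helper40.SpExist.dual_charpoly_sp S₀) (by rw [hχ₀]; exact hf1)
  refine ⟨2 * m₀, by omega, Fin m₀ ⊕ Fin m₀, inferInstance, inferInstance, Q, S₀.1, ?_, hQ,
    hQinv, key⟩
  rw [Fintype.card_sum, Fintype.card_fin]
  omega

end Cfsg.Agent.Lib.Helper20.PG
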